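import Cfsg.Agent.H572.RV.Rows
import Cfsg.Agent.OddOrderLocal.CNBasic

/-!
# Hall subgroups and parts on an invariant nondegenerate subspace (helper572)

`hall_inf` : the intersection of a Hall subgroup with a subgroup which it normalises is a Hall subgroup.

`part_mem` : the parts of the elements of a Hall subgroup `H` on an `H`-invariant nondegenerate subspace belong to `H`.
-/

set_option autoImplicit false
set_option linter.unusedSectionVars false

namespace Cfsg.Agent.H572.DP

open Module Subgroup Cfsg Cfsg.Agent.H167.OP Cfsg.Agent.H170.HL Cfsg.Agent.H988.CPi Cfsg.Agent.H571.RV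
  Cfsg.Agent.H572.RV

section abs

variable {G : Type*} [Group G] [Finite G] {π : Set ℕ} {H N R : Subgroup G}

/-- a `π`-group normalised by a Hall `π`-subgroup `H` is contained in `H` -/
theorem le_of_hall (hH : IsPiHall π H) (hR : PiN π (Nat.card R)) (hn : H ≤ normalizer (R : Set G)) : R ≤ H := by
  have h1 := card_sup hn
  have h2 : PiN π (Nat.card (H ⊔ R : Subgroup G)) := by
    rw [h1]
    exact PiN.mul hR (PiN.of_dvd hH.1 (Subgroup.relIndex_dvd_card _ _))
  have h3 : H.relIndex (H ⊔ R) = 1 := by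
    by_contra hne
    obtain ⟨p, hp, hd⟩ := Nat.exists_prime_and_dvd hne
    have hpπ := h2 p hp (hd.trans (Subgroup.relIndex_dvd_card _ _))
    exact hH.2 p hp hpπ (hd.trans (Subgroup.relIndex_dvd_index_of_le le_sup_left))
  exact le_sup_right.trans (Subgroup.relIndex_eq_one.mp h3)

/-- the intersection with a normalised subgroup is a Hall subgroup -/
theorem hall_inf (hH : IsPiHall π H) (hn : H ≤ normalizer (N : Set G)) : IsPiHall π (H.subgroupOf N) := by
  have h1 := card_sup hn
  have h2 : Nat.card N = Nat.card (H.subgroupOf N) * (H.subgroupOf N).index := (Subgroup.card_mul_index _).symm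
  have h3 : Nat.card (N.subgroupOf H) * N.relIndex H = Nat.card H := Subgroup.card_mul_index _
  have h4 : Nat.card (N.subgroupOf H) = Nat.card (H.subgroupOf N) := by
    rw [← Subgroup.card_map_of_injective H.subtype_injective, ← Subgroup.card_map_of_injective N.subtype_injective,
      Subgroup.subgroupOf_map_subtype, Subgroup.subgroupOf_map_subtype, inf_comm]
  have h5 : Nat.card H * H.relIndex (H ⊔ N) = Nat.card (H ⊔ N : Subgroup G) := by
    rw [← Nat.card_congr (Subgroup.subgroupOfEquivOfLe (le_sup_left : H ≤ H ⊔ N)).toEquiv]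
    exact Subgroup.card_mul_index _
  have h6 : (H.subgroupOf N).index = H.relIndex (H ⊔ N) := by
    have hp1 : 0 < Nat.card (H.subgroupOf N) := Nat.card_pos
    have hp2 : 0 < N.relIndex H := Nat.pos_of_ne_zero
      (ne_zero_of_dvd_ne_zero Nat.card_pos.ne' (Subgroup.relIndex_dvd_card N H))
    have h7 : (Nat.card (H.subgroupOf N) * N.relIndex H) * (H.subgroupOf N).index =
        (Nat.card (H.subgroupOf N) * N.relIndex H) * H.relIndex (H ⊔ N) := by
      rw [← h4, h3, h5, h1, h2, ← h3, h4]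
      ring
    exact Nat.eq_of_mul_eq_mul_left (Nat.mul_pos hp1 hp2) h7
  refine ⟨?_, ?_⟩
  · intro p hp hd
    rw [← Subgroup.card_map_of_injective N.subtype_injective, Subgroup.subgroupOf_map_subtype] at hd
    exact hH.1 p hp (hd.trans (Subgroup.card_dvd_of_le inf_le_left))
  · intro p hp hpπ hd
    rw [h6] at hd
    exact hH.2 p hp hpπ (hd.trans (Subgroup.relIndex_dvd_index_of_le le_sup_left))

end abs

variable {F : Type*} [Field F] [Finite F] {V : Type*} [AddCommGroup V] [Module F V] [Finite V]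
  [FiniteDimensional F V] {K : Type*} [Group K] [Finite K]
  {ρ : Representation F K V} {f : V →ₗ[F] V →ₗ[F] F} {Q : V → F} {U : Submodule F V} {H : Subgroup K} {π : Set ℕ}

/-- the group of the parts of the elements of `H` -/
def Pt (_h : IsoG ρ f Q) (_hU : ND f U) (hHU : ∀ g ∈ H, U.map (ρ g) = U) : Subgroup K where
  carrier := {k | ∃ x ∈ H, IsPart ρ f U x k}
  mul_mem' := by
    rintro a b ⟨x, hx, hxa⟩ ⟨y, hy, hyb⟩
    exact ⟨x * y, H.mul_mem hx hy, hxa.mul hyb fun u hu => mem_of_map (hHU y hy) hu⟩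
  one_mem' := ⟨1, H.one_mem, IsPart.one⟩
  inv_mem' := by
    rintro a ⟨x, hx, hxa⟩
    exact ⟨x⁻¹, H.inv_mem hx, hxa.inv (hHU x hx)⟩

theorem pt_card_dvd (h : IsoG ρ f Q) (hU : ND f U) (hHU : ∀ g ∈ H, U.map (ρ g) = U) :
    Nat.card (Pt h hU hHU) ∣ Nat.card H := by
  classical
  have hex : ∀ x : H, ∃ k, IsPart ρ f U (x : K) k := fun x =>
    h.exists_part hU fun u hu => mem_of_map (hHU x x.2) hu
  choose p hp using hex
  let φ : H →* Pt h hU hHU := MonoidHom.mk' (fun x => ⟨p x, x, x.2, hp x⟩) (by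
    intro x y
    apply Subtype.ext
    show p (x * y) = p x * p y
    have h1 : IsPart ρ f U ((x : K) * (y : K)) (p x * p y) := (hp x).mul (hp y) fun u hu => mem_of_map (hHU y y.2) hu
    exact (hp (x * y)).unique h.inj hU h1)
  have hφ : Function.Surjective φ := by
    rintro ⟨k, x, hx, hk⟩
    exact ⟨⟨x, hx⟩, Subtype.ext ((hp ⟨x, hx⟩).unique h.inj hU hk)⟩
  exact Subgroup.card_dvd_of_surjective φ hφ

theorem pt_norm (h : IsoG ρ f Q) (hU : ND f U) (hHU : ∀ g ∈ H, U.map (ρ g) = U) :
    H ≤ normalizer (Pt h hU hHU : Set K) := by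
  have key : ∀ g ∈ H, ∀ k ∈ Pt h hU hHU, g * k * g⁻¹ ∈ Pt h hU hHU := by
    rintro g hg k ⟨x, hx, hk⟩
    have h1 := hk.conj h g
    rw [hHU g hg] at h1
    exact ⟨g * x * g⁻¹, H.mul_mem (H.mul_mem hg hx) (H.inv_mem hg), h1⟩
  intro g hg
  rw [Subgroup.mem_normalizer_iff]
  intro k
  refine ⟨key g hg k, fun hk => ?_⟩
  have h1 := key g⁻¹ (H.inv_mem hg) _ hk
  have h2 : g⁻¹ * (g * k * g⁻¹) * g⁻¹⁻¹ = k := by group
  rwa [h2] at h1

/-- **parts of elements of a Hall subgroup** -/
theorem part_mem (h : IsoG ρ f Q) (hU : ND f U) (hHU : ∀ g ∈ H, U.map (ρ g) = U) (hH : IsPiHall π H)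
    {x k : K} (hx : x ∈ H) (hk : IsPart ρ f U x k) : k ∈ H := by
  have h1 : Pt h hU hHU ≤ H :=
    le_of_hall hH (PiN.of_dvd hH.1 (pt_card_dvd h hU hHU)) (pt_norm h hU hHU)
  exact h1 ⟨x, hx, hk⟩

end Cfsg.Agent.H572.DP
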